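import Groth.Prelude.Def_EGA41
import Mathlib

/-! Kernel of the base change of `Ω[K⁄k₀] → Ω[K⁄k]`, and admissibility through an intermediate field. -/

universe v w w'

open TensorProduct

namespace Groth.Agent.ImperfLib

variable {k₀ : Type w'} {k : Type v} {K L : Type w} [Field k₀] [Field k] [Field K] [Field L]
  [Algebra k₀ k] [Algebra k₀ K] [Algebra k K] [IsScalarTower k₀ k K] [Algebra K L]

/-- An element killed in `L ⊗ Ω[K⁄k]` lies in the span of the `1 ⊗ D c`, `c ∈ k`. -/
theorem mem_span_of_baseChange_eq_zero {z : L ⊗[K] Ω[K⁄k₀]}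
    (hz : (KaehlerDifferential.map k₀ k K K).baseChange L z = 0) :
    z ∈ Submodule.span L (Set.range fun c : k => (1 : L) ⊗ₜ[K] KaehlerDifferential.D k₀ K (algebraMap k K c)) := by
  let f : Ω[K⁄k₀] →ₗ[K] Ω[K⁄k] := KaehlerDifferential.map k₀ k K K
  have hex := Module.Flat.lTensor_exact L (LinearMap.exact_subtype_ker_map f)
  have hz' : f.lTensor L z = 0 := by rw [← LinearMap.baseChange_eq_ltensor]; exact hz
  obtain ⟨w, rfl⟩ := (hex z).mp hz'
  clear hz hz' hex
  induction w with
  | zero => rw [map_zero]; exact Submodule.zero_mem _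
  | add x y hx hy => rw [map_add]; exact Submodule.add_mem _ hx hy
  | tmul l κ =>
    rw [LinearMap.lTensor_tmul]
    obtain ⟨u, hu⟩ := (KaehlerDifferential.exact_mapBaseChange_map k₀ k K κ.1).mp κ.2
    have key : ∀ u : K ⊗[k] Ω[k⁄k₀], l ⊗ₜ[K] KaehlerDifferential.mapBaseChange k₀ k K u ∈
        Submodule.span L (Set.range fun c : k => (1 : L) ⊗ₜ[K] KaehlerDifferential.D k₀ K (algebraMap k K c)) := by
      intro u
      induction u with
      | zero => rw [map_zero, TensorProduct.tmul_zero]; exact Submodule.zero_mem _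
      | add x y hx hy => rw [map_add, TensorProduct.tmul_add]; exact Submodule.add_mem _ hx hy
      | tmul a ω =>
        rw [KaehlerDifferential.mapBaseChange_tmul]
        have hω : ω ∈ Submodule.span k (Set.range (KaehlerDifferential.D k₀ k)) := by
          rw [KaehlerDifferential.span_range_derivation]; trivial
        induction hω using Submodule.span_induction generalizing l with
        | mem x hx =>
          obtain ⟨c, rfl⟩ := hx
          rw [KaehlerDifferential.map_D, ← TensorProduct.smul_tmul,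
            show (a • l) ⊗ₜ[K] KaehlerDifferential.D k₀ K (algebraMap k K c) =
              (a • l) • ((1 : L) ⊗ₜ[K] KaehlerDifferential.D k₀ K (algebraMap k K c)) by
              rw [TensorProduct.smul_tmul', smul_eq_mul, mul_one]]
          exact Submodule.smul_mem _ _ (Submodule.subset_span ⟨c, rfl⟩)
        | zero => rw [map_zero, smul_zero, TensorProduct.tmul_zero]; exact Submodule.zero_mem _
        | add x y _ _ hx hy => rw [map_add, smul_add, TensorProduct.tmul_add]; exact Submodule.add_mem _ (hx l) (hy l)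
        | smul r x _ hx =>
          rw [map_smul, ← algebraMap_smul K r, smul_comm, ← TensorProduct.smul_tmul]
          exact hx _
    rw [Submodule.subtype_apply, ← hu]
    exact key u

variable [Algebra k₀ L] [IsScalarTower k₀ K L]

/-- If `Υ_{L/k'/k₀} = 0` for an intermediate field `k'`, no nonzero element of `Υ_{L/K/k₀}` comes from `k'`. -/
theorem eq_zero_of_mem_span (k' : IntermediateField k₀ K)
    (hinj : Function.Injective (KaehlerDifferential.mapBaseChange k₀ k' L)) {z : L ⊗[K] Ω[K⁄k₀]}
    (hz : z ∈ EGA41.imperfection k₀ K L)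
    (hzs : z ∈ Submodule.span L (Set.range fun c : k' => (1 : L) ⊗ₜ[K] KaehlerDifferential.D k₀ K (c : K))) :
    z = 0 := by
  let g : Ω[k'⁄k₀] →ₗ[k'] L ⊗[K] Ω[K⁄k₀] :=
    ((TensorProduct.mk K L (Ω[K⁄k₀]) 1).restrictScalars k') ∘ₗ KaehlerDifferential.map k₀ k₀ k' K
  let Φ : L ⊗[k'] Ω[k'⁄k₀] →ₗ[L] L ⊗[K] Ω[K⁄k₀] := g.liftBaseChange L
  have hΦ : ∀ c : k', Φ ((1 : L) ⊗ₜ KaehlerDifferential.D k₀ k' c) = (1 : L) ⊗ₜ[K] KaehlerDifferential.D k₀ K (c : K) := fun c => by
    simp only [Φ, LinearMap.liftBaseChange_tmul, one_smul]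
    show (1 : L) ⊗ₜ[K] KaehlerDifferential.map k₀ k₀ k' K (KaehlerDifferential.D k₀ k' c) = _
    rw [KaehlerDifferential.map_D]
    rfl
  have hle : Submodule.span L (Set.range fun c : k' => (1 : L) ⊗ₜ[K] KaehlerDifferential.D k₀ K (c : K)) ≤
      LinearMap.range Φ := by
    rw [Submodule.span_le]
    rintro _ ⟨c, rfl⟩
    exact ⟨_, hΦ c⟩
  obtain ⟨w, rfl⟩ := hle hzs
  have hcomp : (KaehlerDifferential.mapBaseChange k₀ K L).comp Φ = KaehlerDifferential.mapBaseChange k₀ k' L := by
    refine TensorProduct.AlgebraTensorModule.ext fun l ω => ?_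
    rw [LinearMap.comp_apply, LinearMap.liftBaseChange_tmul, map_smul, KaehlerDifferential.mapBaseChange_tmul]
    congr 1
    show KaehlerDifferential.mapBaseChange k₀ K L ((1 : L) ⊗ₜ KaehlerDifferential.map k₀ k₀ k' K ω) = _
    rw [KaehlerDifferential.mapBaseChange_tmul, one_smul]
    have hω : ω ∈ Submodule.span k' (Set.range (KaehlerDifferential.D k₀ k')) := by
      rw [KaehlerDifferential.span_range_derivation]; trivial
    induction hω using Submodule.span_induction with
    | mem x hx =>
      obtain ⟨c, rfl⟩ := hx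
      rw [KaehlerDifferential.map_D, KaehlerDifferential.map_D, KaehlerDifferential.map_D,
        ← IsScalarTower.algebraMap_apply]
    | zero => simp
    | add x y _ _ hx hy => simp only [map_add, hx, hy]
    | smul r x _ hx => rw [map_smul, LinearMap.map_smul_of_tower, map_smul, hx]
  have h0 : KaehlerDifferential.mapBaseChange k₀ k' L w = 0 := by
    rw [← hcomp]
    exact hz
  rw [hinj (h0.trans (map_zero _).symm), map_zero]

end Groth.Agent.ImperfLib
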